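import Cfsg.Agent.Lib.Char.Monomial
import Cfsg.Agent.Lib.Char.CliffordCorrespondence
import Cfsg.Agent.Lib.Solvable.Schmidt

/-!
# Monomial characters relative to a normal subgroup

Irreducibility under restriction and induction, chief factors of solvable sections, and the theorem that an
irreducible character is monomial when its restriction to a solvable normal subgroup with abelian Sylow subgroups
is irreducible.
-/

namespace Cfsg.Agent.MonomialRel

open scoped ComplexConjugate
open Cfsg Cfsg.Agent.Char

universe u v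

/-- A character with irreducible image under an additive map preserving characters is irreducible. -/
theorem irr_of_linear_image {A : Type u} [Group A] [Fintype A] {B : Type v} [Group B] [Fintype B]
    (Φ : (A → ℂ) →ₗ[ℂ] (B → ℂ)) (hchar : ∀ χ, IsCharacter A χ → IsCharacter B (Φ χ))
    (hne : ∀ χ, IsIrrCharacter A χ → Φ χ 1 ≠ 0) {χ : A → ℂ} (hχ : IsCharacter A χ)
    (hirr : IsIrrCharacter B (Φ χ)) : IsIrrCharacter A χ := by
  classical
  obtain ⟨m, hm, -⟩ := IsCharacter.exists_decomp hχ
  choose k hk using fun ψ : IrrCharacter A =>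
    IsCharacter.exists_nat_classInner (hchar _ (irr_isCharacter ψ)) (IsIrrCharacter.isCharacter hirr)
  have himg : Φ χ = ∑ ψ : IrrCharacter A, (m ψ : ℂ) • Φ ψ.1 := by rw [hm, map_sum]; simp [map_smul]
  have hsum : ∑ ψ : IrrCharacter A, m ψ * k ψ = 1 := by
    have h := classInner_irr_self hirr
    nth_rw 1 [himg] at h
    rw [classInner_sum_left] at h
    simp only [classInner_smul_left, hk, ← Nat.cast_mul, ← Nat.cast_sum] at h
    exact_mod_cast h
  have hpos : ∀ ψ : IrrCharacter A, m ψ ≠ 0 → k ψ ≠ 0 := by
    intro ψ hmψ hkψ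
    obtain ⟨η, hη⟩ : ∃ η : IrrCharacter B, classInner (Φ ψ.1) η.1 ≠ 0 := by
      by_contra! hz
      have := eq_zero_of_classInner_irr (IsCharacter.isClassFunction (hchar _ (irr_isCharacter ψ))) hz
      exact hne _ ψ.2 (by rw [this]; rfl)
    have hηne : η.1 ≠ Φ χ := fun e => hη (by rw [e, hk, hkψ, Nat.cast_zero])
    choose l hl using fun ψ' : IrrCharacter A =>
      IsCharacter.exists_nat_classInner (hchar _ (irr_isCharacter ψ')) (irr_isCharacter η)
    have h := classInner_irr_of_ne hirr η.2 hηne.symm
    rw [himg, classInner_sum_left] at h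
    simp only [classInner_smul_left, hl, ← Nat.cast_mul, ← Nat.cast_sum, Nat.cast_eq_zero,
      Finset.sum_eq_zero_iff, Finset.mem_univ, true_implies, mul_eq_zero] at h
    exact hη (by rw [hl, (h ψ).resolve_left hmψ, Nat.cast_zero])
  obtain ⟨ψ, -, hψ⟩ := Finset.exists_ne_zero_of_sum_ne_zero (hsum.trans_ne one_ne_zero)
  rw [← Finset.add_sum_erase _ _ (Finset.mem_univ ψ)] at hsum
  have h1 : m ψ * k ψ = 1 := by
    have := Nat.one_le_iff_ne_zero.2 hψ
    omega
  have hrest : ∀ φ ≠ ψ, m φ = 0 := fun φ hφ => by
    by_contra h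
    have h2 : 1 ≤ m φ * k φ := Nat.one_le_iff_ne_zero.2 (mul_ne_zero h (hpos φ h))
    have := Finset.single_le_sum (f := fun φ => m φ * k φ) (fun _ _ => Nat.zero_le _)
      (Finset.mem_erase.2 ⟨hφ, Finset.mem_univ φ⟩)
    omega
  rw [hm, Finset.sum_eq_single ψ (fun φ _ hφ => by rw [hrest φ hφ, Nat.cast_zero, zero_smul])
    (fun h => absurd (Finset.mem_univ _) h), (mul_eq_one.1 h1).1, Nat.cast_one, one_smul]
  exact ψ.2

variable {G : Type u} [Group G] [Fintype G]

/-- If `ind ψ` restricts irreducibly to `N`, so does `ψ` to `H ⊓ N`. -/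
theorem irr_res_of_indFun (H N : Subgroup G) [Fintype H] {ψ : H → ℂ} (hψ : IsCharacter H ψ)
    (h0 : ψ ≠ 0) (hind : IsIrrCharacter N (resFun N (indFun H ψ))) :
    IsIrrCharacter (H.subgroupOf N) (fun x => ψ ⟨(x : N), x.2⟩) := by
  classical
  set U := H.subgroupOf N with hU
  haveI := Fintype.ofFinite N
  haveI := Fintype.ofFinite U
  let inc : U →* H :=
    { toFun := fun x => ⟨(x : N), x.2⟩
      map_one' := rfl
      map_mul' := fun _ _ => rfl }
  set η : U → ℂ := fun x => ψ (inc x) with hη
  have hηc : IsCharacter U η := IsCharacter.comp hψ inc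
  set θ : N → ℂ := resFun N (indFun H ψ) with hθ
  obtain ⟨d, hd⟩ := IsCharacter.apply_one hψ
  have hd0 : d ≠ 0 := fun h => h0 (IsCharacter.eq_zero_of_apply_one hψ (by rw [hd, h, Nat.cast_zero]))
  have hη1 : η 1 = d := hd
  -- `θ` is a constituent of the induced function
  have hcon : classInner (indFun U η) θ ≠ 0 := by
    rw [classInner_indFun U η (IsCharacter.isClassFunction (IsIrrCharacter.isCharacter hind))]
    obtain ⟨m, hm, -⟩ := IsCharacter.exists_decomp (IsCharacter.restrict (isCharacter_indFun H hψ) H)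
    obtain ⟨m', hm', hm''⟩ := IsCharacter.exists_decomp hψ
    have hle : ∀ φ, m' φ ≤ m' φ * m φ := fun φ => by
      rcases Nat.eq_zero_or_pos (m' φ) with h | h
      · simp [h]
      refine Nat.le_mul_of_pos_right _ (Nat.pos_of_ne_zero fun hmφ => ?_)
      -- constituents of `ψ` are constituents of the restriction of `ind ψ`
      have hval : classInner (fun x : H => indFun H ψ x) φ.1 = m φ := by
        rw [hm, classInner_sum_irr_left]
      have h1 : classInner (indFun H ψ) (indFun H φ.1) = 0 := by
        rw [classInner_indFun_right H φ.1 (isClassFunction_indFun H ψ), hval, hmφ, Nat.cast_zero]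
      have hdec : indFun H ψ = ∑ φ' : IrrCharacter H, (m' φ' : ℂ) • indFun H φ'.1 := by
        rw [hm', indFun_sum]; simp [indFun_smul]
      choose l hl using fun φ' : IrrCharacter H =>
        IsCharacter.exists_nat_classInner (isCharacter_indFun H (irr_isCharacter φ'))
          (isCharacter_indFun H (irr_isCharacter φ))
      rw [hdec, classInner_sum_left] at h1
      simp only [classInner_smul_left, hl, ← Nat.cast_mul, ← Nat.cast_sum, Nat.cast_eq_zero,
        Finset.sum_eq_zero_iff, Finset.mem_univ, true_implies, mul_eq_zero] at h1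
      have h2 := (h1 φ).resolve_left h.ne'
      have h3 := congrFun (classInner_self_eq_zero (φ := indFun H φ.1) (by rw [hl, h2, Nat.cast_zero])) 1
      rw [indFun_apply_one] at h3
      exact mul_ne_zero (Nat.cast_ne_zero.2 Subgroup.index_ne_zero_of_finite)
        (IsIrrCharacter.apply_one_ne_zero φ.2) h3
    choose A hA using fun φ φ' : IrrCharacter H =>
      IsCharacter.exists_nat_classInner (IsCharacter.comp (irr_isCharacter φ) inc)
        (IsCharacter.comp (irr_isCharacter φ') inc)
    have e1 : η = ∑ φ : IrrCharacter H, (m' φ : ℂ) • fun x : U => φ.1 (inc x) :=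
      funext fun x => by simpa using congrFun hm' (inc x)
    have e2 : (fun x : U => θ x) = ∑ φ : IrrCharacter H, (m φ : ℂ) • fun x : U => φ.1 (inc x) :=
      funext fun x => by
        have := congrFun hm (inc x)
        simp only [Finset.sum_apply, Pi.smul_apply, smul_eq_mul] at this ⊢
        exact this
    rw [e1, e2, classInner_sum_left]
    simp only [classInner_smul_left, classInner_sum_right, classInner_smul_right, Complex.conj_natCast, hA,
      ← Nat.cast_mul, ← Nat.cast_sum, ne_eq, Nat.cast_eq_zero]
    intro hz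
    obtain ⟨φ, -, hφ⟩ : ∃ φ ∈ (Finset.univ : Finset (IrrCharacter H)), m' φ ≠ 0 := by
      by_contra! hcon
      exact h0 (by rw [hm', Finset.sum_eq_zero fun φ hφ => by rw [hcon φ hφ, Nat.cast_zero, zero_smul]])
    have h1 := Finset.sum_eq_zero_iff.1 hz φ (Finset.mem_univ _)
    have h2 := Finset.sum_eq_zero_iff.1 h1 φ (Finset.mem_univ _)
    rcases mul_eq_zero.1 h2 with h3 | h3
    · have := hle φ
      rw [h3] at this
      rw [mul_zero] at this
      exact hφ (Nat.le_zero.1 this)
    · have h4 := congrFun (classInner_self_eq_zero (φ := fun x : U => φ.1 (inc x))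
        (by rw [hA, (mul_eq_zero.1 h3).resolve_left hφ, Nat.cast_zero])) 1
      exact IsIrrCharacter.apply_one_ne_zero φ.2 (by simpa using h4)
  -- degrees
  obtain ⟨m, hm, hm'⟩ := IsCharacter.exists_decomp (isCharacter_indFun U hηc)
  set θ' : IrrCharacter N := ⟨θ, hind⟩
  have hmθ : m θ' ≠ 0 := fun h => hcon (by
    show classInner (indFun U η) θ'.1 = 0
    rw [hm', h, Nat.cast_zero])
  have hdeg : ∑ φ : IrrCharacter N, m φ * degree φ = U.index * d := by
    have := congrFun hm 1
    simp only [indFun_apply_one, hη1, Finset.sum_apply, Pi.smul_apply, smul_eq_mul, apply_one_eq_degree] at this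
    exact_mod_cast this.symm
  have hθdeg : degree θ' = H.index * d := by
    have e := apply_one_eq_degree θ'
    rw [show θ'.1 1 = indFun H ψ 1 from rfl, indFun_apply_one, hd] at e
    exact_mod_cast e.symm
  have hidx : U.index ≤ H.index := by
    show H.relIndex N ≤ H.index
    rw [← Subgroup.relIndex_top_right]
    exact Subgroup.relIndex_le_of_le_right le_top (by rw [Subgroup.relIndex_top_right]; exact Subgroup.index_ne_zero_of_finite)
  rw [← Finset.add_sum_erase _ _ (Finset.mem_univ θ'), hθdeg] at hdeg
  have hmul : U.index * d ≤ H.index * d := Nat.mul_le_mul_right d hidx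
  have hm1 : m θ' * (H.index * d) ≥ H.index * d := Nat.le_mul_of_pos_left _ (Nat.pos_of_ne_zero hmθ)
  have hrest : ∀ φ ≠ θ', m φ = 0 := fun φ hφ => by
    have h1 : ∑ x ∈ Finset.univ.erase θ', m x * degree x = 0 := by omega
    exact (mul_eq_zero.1 (Finset.sum_eq_zero_iff.1 h1 φ (Finset.mem_erase.2 ⟨hφ, Finset.mem_univ _⟩))).resolve_right
      (degree_pos φ).ne'
  have hm1' : m θ' = 1 := by
    have h1 : ∑ x ∈ Finset.univ.erase θ', m x * degree x = 0 := by omega
    have h2 : m θ' * (H.index * d) = 1 * (H.index * d) := by omega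
    exact Nat.eq_of_mul_eq_mul_right (Nat.mul_pos (Nat.pos_of_ne_zero Subgroup.index_ne_zero_of_finite)
      (Nat.pos_of_ne_zero hd0)) h2
  have heq : indFun U η = θ := by
    rw [hm, Finset.sum_eq_single θ' (fun φ _ hφ => by rw [hrest φ hφ, Nat.cast_zero, zero_smul])
      (fun h => absurd (Finset.mem_univ _) h), hm1', Nat.cast_one, one_smul]
  refine irr_of_linear_image
    { toFun := indFun U, map_add' := indFun_add U, map_smul' := indFun_smul U }
    (fun _ h => isCharacter_indFun U h)
    (fun φ h => by
      show indFun U φ 1 ≠ 0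
      rw [indFun_apply_one]
      exact mul_ne_zero (Nat.cast_ne_zero.2 Subgroup.index_ne_zero_of_finite) (IsIrrCharacter.apply_one_ne_zero h))
    hηc ?_
  show IsIrrCharacter N (indFun U η)
  rw [heq]; exact hind

omit [Fintype G] in
/-- A solvable chief factor is abelian. -/
theorem commutator_le_of_chief (A M : Subgroup G) [A.Normal] [M.Normal] (hAM : A < M)
    (hchief : ∀ X : Subgroup G, X.Normal → A ≤ X → X ≤ M → X = A ∨ X = M)
    (hsolv : Group.IsSolvable (M.map (QuotientGroup.mk' A))) : ⁅M, M⁆ ≤ A := by
  rcases hchief (⁅M, M⁆ ⊔ A) inferInstance le_sup_right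
    (sup_le (Subgroup.commutator_le_self M) hAM.le) with h | h
  · exact le_sup_left.trans h.le
  · exfalso
    set Q := M.map (QuotientGroup.mk' A) with hQ
    have hQQ : ⁅Q, Q⁆ = Q := by
      conv_rhs => rw [hQ, ← h, Subgroup.map_sup, (Subgroup.map_eq_bot_iff A).2 (QuotientGroup.ker_mk' A).ge,
        sup_bot_eq, Subgroup.map_commutator]
    have hbot : Q ≠ ⊥ := fun e => hAM.not_ge fun x hx =>
      (QuotientGroup.eq_one_iff x).1 (Subgroup.mem_bot.1 (e ▸ Subgroup.mem_map_of_mem _ hx :
        (QuotientGroup.mk' A x) ∈ (⊥ : Subgroup (G ⧸ A))))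
    haveI : Nontrivial Q := (Subgroup.nontrivial_iff_ne_bot Q).2 hbot
    refine (Group.IsSolvable.commutator_lt_top_of_nontrivial Q).ne ?_
    refine Subgroup.map_injective Q.subtype_injective ?_
    rw [commutator_def, Subgroup.map_commutator, ← MonoidHom.range_eq_map, Subgroup.range_subtype, hQQ]

/-- A finite group with central commutators and abelian Sylow subgroups is abelian. -/
theorem comm_of_central_commutators {R : Type*} [Group R] [Finite R]
    (hc : ∀ a b x : R, a * b * a⁻¹ * b⁻¹ * x = x * (a * b * a⁻¹ * b⁻¹))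
    (hS : ∀ (p : ℕ) [Fact p.Prime] (P : Sylow p R), IsMulCommutative (P : Subgroup R)) :
    ∀ a b : R, a * b = b * a := by
  have h1 : ∀ a b : R ⧸ Subgroup.center R, a * b = b * a := by
    intro a b
    induction a using QuotientGroup.induction_on with
    | _ a =>
    induction b using QuotientGroup.induction_on with
    | _ b =>
    rw [← QuotientGroup.mk_mul, ← QuotientGroup.mk_mul, QuotientGroup.eq_iff_div_mem, Subgroup.mem_center_iff]
    intro x
    have := hc a b x
    simpa [div_eq_mul_inv, mul_assoc] using this.symm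
  letI : CommGroup (R ⧸ Subgroup.center R) := { (inferInstance : Group (R ⧸ Subgroup.center R)) with mul_comm := h1 }
  haveI : Group.IsNilpotent R := Group.of_quotient_center_nilpotent inferInstance
  exact fun a b => (Solvable.isMulCommutative_of_nilpotent_of_sylow (G := R) hS).is_comm.comm a b

end Cfsg.Agent.MonomialRel
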