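import Cfsg.Agent.Lib.MonomialRel.Basic

/-!
# An irreducible character with irreducible restriction to a solvable A-subgroup is monomial
-/

namespace Cfsg.Agent.MonomialRel

open scoped ComplexConjugate
open Cfsg Cfsg.Agent.Char

universe u

/-- All `p`-subgroups inside `N` are commutative. -/
def AbelianPSubgroups {G : Type u} [Group G] (N : Subgroup G) : Prop :=
  ∀ p : ℕ, p.Prime → ∀ P : Subgroup G, P ≤ N → IsPGroup p P → ∀ a ∈ P, ∀ b ∈ P, a * b = b * a

/-- The statement proved by induction on the order. -/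
def Claim (n : ℕ) : Prop :=
  ∀ (G : Type u) [Group G] [Fintype G], Nat.card G = n → ∀ (N : Subgroup G) [N.Normal],
    Group.IsSolvable N → AbelianPSubgroups N → ∀ χ : G → ℂ, IsIrrCharacter G χ →
      IsIrrCharacter N (resFun N χ) → IsMonomialChar χ

variable {G : Type u} [Group G] [Fintype G]

/-- Descent to a subgroup inducing `χ`. -/
theorem monomial_of_indFun (IH : ∀ k < Nat.card G, Claim.{u} k) (N : Subgroup G) [N.Normal]
    (hsolv : Group.IsSolvable N) (hN : AbelianPSubgroups N) (T : Subgroup G) [Fintype T] (hT : T ≠ ⊤)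
    {ψ : T → ℂ} (hψ : IsIrrCharacter T ψ) (hres : IsIrrCharacter N (resFun N (indFun T ψ))) :
    IsMonomialChar (indFun T ψ) := by
  classical
  haveI := Fintype.ofFinite N
  have hlt : Nat.card T < Nat.card G := by
    rcases (Subgroup.card_le_card_group T).lt_or_eq with h | h
    · exact h
    · exact absurd (Subgroup.eq_top_of_card_eq T h) hT
  have h1 := irr_res_of_indFun T N (IsIrrCharacter.isCharacter hψ) (IsIrrCharacter.ne_zero hψ) hres
  let E : (N.subgroupOf T) ≃* (T.subgroupOf N) :=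
    { toFun := fun x => ⟨⟨((x : T) : G), x.2⟩, (x : T).2⟩
      invFun := fun x => ⟨⟨((x : N) : G), x.2⟩, (x : N).2⟩
      left_inv := fun _ => rfl
      right_inv := fun _ => rfl
      map_mul' := fun _ _ => rfl }
  have hinj : Function.Injective (((T.subgroupOf N).subtype).comp E.toMonoidHom) :=
    (T.subgroupOf N).subtype_injective.comp E.injective
  haveI : (N.subgroupOf T).Normal := Subgroup.Normal.subgroupOf inferInstance T
  refine IsMonomialChar.indFun_of (IH _ hlt T rfl (N.subgroupOf T) ?_ ?_ ψ hψ ?_)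
  · haveI := hsolv
    exact Group.isSolvable_of_isSolvable_injective hinj
  · intro p hp P hP hPp a ha b hb
    refine Subtype.ext (hN p hp (P.map T.subtype) ?_ (hPp.map _) a ⟨a, ha, rfl⟩ b ⟨b, hb, rfl⟩)
    rintro _ ⟨x, hx, rfl⟩
    exact hP hx
  · exact IsIrrCharacter.comp_surjective h1 E.toMonoidHom E.surjective

/-- A normal subgroup on which `χ` is commutative acts by scalars, or `χ` is monomial. -/
theorem scalar_or_monomial (IH : ∀ k < Nat.card G, Claim.{u} k) (N : Subgroup G) [N.Normal]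
    (hsolv : Group.IsSolvable N) (hN : AbelianPSubgroups N) {n : ℕ}
    (ρ : Representation ℂ G (Fin n → ℂ)) (hρ : ρ.IsIrreducible)
    (hres : IsIrrCharacter N (resFun N ρ.character)) (L : Subgroup G) [L.Normal]
    (hcomm : ∀ a b : L, ρ a * ρ b = ρ b * ρ a) :
    IsMonomialChar ρ.character ∨ ∀ a ∈ L, ∃ c : ℂ, ρ a = c • (1 : Module.End ℂ (Fin n → ℂ)) := by
  classical
  haveI := Fintype.ofFinite L
  let χ : IrrCharacter G := ⟨ρ.character, isIrrCharacter_character ρ hρ⟩
  obtain ⟨lam, hlam⟩ := exists_constituent L χ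
  have hlam1 : lam.1 1 = 1 := constituent_apply_one_of_commute (ρ.comp L.subtype) hcomm lam hlam
  obtain ⟨hle, ψ, e, -, -, hind⟩ := exists_indFun_inertia L χ lam hlam
  by_cases hT : inertiaGroup L lam.1 = ⊤
  · right
    have hinv : ∀ g, conjFun L lam.1 g = lam.1 := fun g =>
      mem_inertiaGroup.1 (hT ▸ Subgroup.mem_top g)
    have h := resFun_eq_smul_of_invariant L χ lam hinv hlam
    obtain ⟨f, hf⟩ := IsCharacter.exists_monoidHom (irr_isCharacter lam) hlam1
    have hc : classInner (resFun L χ.1) lam.1 = (n : ℂ) := by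
      have := congrFun h 1
      rw [Pi.smul_apply, hlam1, smul_eq_mul, mul_one] at this
      rw [← this]
      simp [χ, resFun_apply]
    intro a ha
    refine ⟨f ⟨a, ha⟩, apply_eq_smul_of_character_eq ρ L f (fun b => ?_) ⟨a, ha⟩⟩
    have := congrFun h b
    rw [hc, Pi.smul_apply, ← hf, smul_eq_mul] at this
    exact this
  · left
    haveI := Fintype.ofFinite (inertiaGroup L lam.1)
    have e' : ρ.character = indFun (inertiaGroup L lam.1) ψ.1 := hind.symm
    rw [e'] at hres ⊢
    exact monomial_of_indFun IH N hsolv hN _ hT ψ.2 hres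

/-- An irreducible character whose restriction to a solvable normal subgroup with abelian Sylow subgroups is
irreducible is monomial. -/
theorem claim (n : ℕ) : Claim.{u} n := by
  induction n using Nat.strong_induction_on with
  | _ n IH =>
  intro G _ _ hn N _ hsolv hN χ hχ hres
  classical
  subst hn
  obtain ⟨d, ρ, hρ, rfl⟩ := hχ
  haveI := Fintype.ofFinite N
  haveI := hsolv
  have hstep := fun (L : Subgroup G) [L.Normal] h => scalar_or_monomial IH N hsolv hN ρ hρ hres L h
  -- the part of `N` acting by scalars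
  let π : G →* (Module.End ℂ (Fin d → ℂ))ˣ := ρ.asGroupHom
  have hπ : ∀ g, ((π g : (Module.End ℂ (Fin d → ℂ))ˣ) : Module.End ℂ (Fin d → ℂ)) = ρ g := fun g => rfl
  let Z : Subgroup G := (Subgroup.centralizer (π.range : Set (Module.End ℂ (Fin d → ℂ))ˣ)).comap π
  have hZ : ∀ g, g ∈ Z ↔ ∀ h, ρ h * ρ g = ρ g * ρ h := fun g => by
    constructor
    · intro hg h
      have := congrArg Units.val (Subgroup.mem_centralizer_iff.1 hg (π h) ⟨h, rfl⟩)
      rwa [Units.val_mul, Units.val_mul, hπ, hπ] at this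
    · intro hg
      rw [Subgroup.mem_comap, Subgroup.mem_centralizer_iff]
      rintro _ ⟨h, rfl⟩
      exact Units.ext (by rw [Units.val_mul, Units.val_mul, hπ, hπ, hg h])
  haveI : Z.Normal := ⟨fun g hg x => (hZ _).2 fun h => by
    have h1 := (hZ g).1 hg (x⁻¹ * h * x)
    have h2 : ρ x * (ρ (x⁻¹ * h * x) * ρ g) * ρ x⁻¹ = ρ x * (ρ g * ρ (x⁻¹ * h * x)) * ρ x⁻¹ := by rw [h1]
    simp only [← map_mul] at h2 ⊢
    simpa [mul_assoc] using h2⟩
  by_cases hNZ : N ≤ Z
  · -- `χ` is linear
    obtain ⟨θ, hθ⟩ := exists_constituent N (⟨ρ.character, isIrrCharacter_character ρ hρ⟩ : IrrCharacter G)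
    have h1 := constituent_apply_one_of_commute (ρ.comp N.subtype)
      (fun a b => (hZ b).1 (hNZ b.2) a) ⟨resFun N ρ.character, hres⟩
      (by
        show classInner (resFun N ρ.character) (resFun N ρ.character) ≠ 0
        rw [classInner_irr_self hres]; exact one_ne_zero)
    refine isMonomialChar_of_apply_one_eq_one (isCharacter_character ρ) ?_
    exact h1
  -- a minimal normal subgroup above it
  set A := N ⊓ Z with hA
  have hAN : A < N := inf_le_left.lt_of_not_ge fun h => hNZ (h.trans inf_le_right)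
  let S : Finset (Subgroup G) := Finset.univ.filter fun X => X.Normal ∧ A < X ∧ X ≤ N
  obtain ⟨M, hM, hmin⟩ := Finset.exists_min_image S (fun X => Nat.card X)
    ⟨N, Finset.mem_filter.2 ⟨Finset.mem_univ _, inferInstance, hAN, le_rfl⟩⟩
  obtain ⟨hMn, hAM, hMN⟩ := (Finset.mem_filter.1 hM).2
  haveI := hMn
  have hchief : ∀ X : Subgroup G, X.Normal → A ≤ X → X ≤ M → X = A ∨ X = M := by
    intro X hX h1 h2
    rcases h1.lt_or_eq with h | h
    · refine Or.inr (Subgroup.eq_of_le_of_card_ge h2 ?_)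
      exact hmin X (Finset.mem_filter.2 ⟨Finset.mem_univ _, hX, h, h2.trans hMN⟩)
    · exact Or.inl h.symm
  have hcom : ⁅M, M⁆ ≤ A := by
    refine commutator_le_of_chief A M hAM hchief ?_
    haveI : Group.IsSolvable M := Group.isSolvable_of_isSolvable_injective (Subgroup.inclusion_injective hMN)
    exact Group.isSolvable_of_surjective ((QuotientGroup.mk' A).subgroupMap_surjective M)
  -- `χ` is commutative on `M`
  let σ : M →* (Module.End ℂ (Fin d → ℂ))ˣ := π.comp M.subtype
  haveI : Finite σ.range := Finite.of_surjective _ σ.rangeRestrict_surjective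
  have hcommM : ∀ a b : σ.range, a * b = b * a := by
    refine comm_of_central_commutators ?_ ?_
    · rintro ⟨_, a, rfl⟩ ⟨_, b, rfl⟩ ⟨_, x, rfl⟩
      have hmem : (a : G) * b * (a : G)⁻¹ * (b : G)⁻¹ ∈ Z := by
        rw [← commutatorElement_def]
        exact (hcom (Subgroup.commutator_mem_commutator a.2 b.2)).2
      have h1 : π x * π ((a : G) * b * (a : G)⁻¹ * (b : G)⁻¹) = π ((a : G) * b * (a : G)⁻¹ * (b : G)⁻¹) * π x :=
        Subgroup.mem_centralizer_iff.1 hmem (π x) ⟨x, rfl⟩
      refine Subtype.ext ?_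
      simpa [σ, mul_assoc] using h1.symm
    · intro p _ P
      obtain ⟨Q, hQ⟩ := Sylow.mapSurjective_surjective σ.rangeRestrict_surjective p P
      refine ⟨⟨fun x y => ?_⟩⟩
      obtain ⟨x, hx⟩ := x
      obtain ⟨y, hy⟩ := y
      rw [← hQ] at hx hy
      obtain ⟨a, ha, rfl⟩ := hx
      obtain ⟨b, hb, rfl⟩ := hy
      have hab : a * b = b * a := Subtype.ext (hN p Fact.out ((Q : Subgroup M).map M.subtype)
        (by rintro _ ⟨x, -, rfl⟩; exact hMN x.2) (Q.2.map _) a ⟨a, ha, rfl⟩ b ⟨b, hb, rfl⟩)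
      refine Subtype.ext ?_
      show σ.rangeRestrict a * σ.rangeRestrict b = σ.rangeRestrict b * σ.rangeRestrict a
      rw [← map_mul, ← map_mul, hab]
  have hMcomm : ∀ a b : M, ρ a * ρ b = ρ b * ρ a := fun a b => by
    have h := congrArg (fun z : σ.range => ((z : (Module.End ℂ (Fin d → ℂ))ˣ) : Module.End ℂ (Fin d → ℂ)))
      (hcommM (σ.rangeRestrict a) (σ.rangeRestrict b))
    simpa [σ, hπ] using h
  rcases hstep M hMcomm with h | h
  · exact h
  · refine absurd (le_inf hMN fun g hg => (hZ g).2 fun x => ?_) hAM.not_ge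
    obtain ⟨c, hc⟩ := h g hg
    rw [hc, mul_smul_comm, smul_mul_assoc, mul_one, one_mul]

/-- The hypothesis on Sylow subgroups of `N`, read on all `p`-subgroups inside `N`. -/
theorem abelianPSubgroups_of_sylow {N : Subgroup G}
    (hab : ∀ (p : ℕ) [Fact p.Prime] (P : Sylow p N), ∀ a ∈ P, ∀ b ∈ P, a * b = b * a) :
    AbelianPSubgroups N := by
  intro p hp P hPN hPp a ha b hb
  haveI : Fact p.Prime := ⟨hp⟩
  obtain ⟨Q, hQ⟩ := (hPp.comap_of_injective N.subtype N.subtype_injective).exists_le_sylow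
  exact congrArg Subtype.val (hab p Q ⟨a, hPN ha⟩ (hQ ha) ⟨b, hPN hb⟩ (hQ hb))

end Cfsg.Agent.MonomialRel
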