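import Cfsg.Agent.S0857
import Cfsg.Agent.Lib.MonomialRel.Basic

/-!
# Relative M-groups from non-square chief factors
-/

namespace Cfsg.Agent.MonomialRel

open scoped ComplexConjugate
open Cfsg Cfsg.Agent.Char

universe u

/-- The hypothesis on chief factors of subgroups above `N`. -/
def NonSquareChief {G : Type u} [Group G] (N : Subgroup G) : Prop :=
  ∀ (H K L : Subgroup G), N ≤ L → L < K → K ≤ H → (∀ h ∈ H, ∀ k ∈ K, h * k * h⁻¹ ∈ K) →
    (∀ h ∈ H, ∀ l ∈ L, h * l * h⁻¹ ∈ L) →
    (∀ M : Subgroup G, L ≤ M → M ≤ K → (∀ h ∈ H, ∀ m ∈ M, h * m * h⁻¹ ∈ M) → M = L ∨ M = K) →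
    ¬ IsSquare (L.relIndex K)

theorem NonSquareChief.restrict {G : Type u} [Group G] {N : Subgroup G} (h : NonSquareChief N)
    (T : Subgroup G) (hNT : N ≤ T) : NonSquareChief (N.subgroupOf T) := by
  intro H K L hNL hLK hKH hK hL hchief
  have hmap : ∀ {X Y : Subgroup T}, (∀ h ∈ X, ∀ y ∈ Y, h * y * h⁻¹ ∈ Y) →
      ∀ h ∈ X.map T.subtype, ∀ y ∈ Y.map T.subtype, h * y * h⁻¹ ∈ Y.map T.subtype := by
    rintro X Y hXY _ ⟨a, ha, rfl⟩ _ ⟨b, hb, rfl⟩
    exact ⟨_, hXY a ha b hb, rfl⟩
  rw [← Subgroup.relIndex_map_map_of_injective L K T.subtype_injective]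
  refine h _ _ _ ?_ ((Subgroup.map_subtype_lt_map_subtype).2 hLK) (Subgroup.map_mono hKH) (hmap hK) (hmap hL) ?_
  · intro x hx
    exact ⟨⟨x, hNT hx⟩, hNL hx, rfl⟩
  · intro M h1 h2 hM
    have hMT : M ≤ T := h2.trans (Subgroup.map_subtype_le K)
    have e : (M.subgroupOf T).map T.subtype = M := Subgroup.map_subgroupOf_eq_of_le hMT
    rcases hchief (M.subgroupOf T) (fun x hx => Subgroup.mem_subgroupOf.2 (h1 ⟨x, hx, rfl⟩))
      (fun x hx => by
        obtain ⟨y, hy, hyx⟩ := h2 (Subgroup.mem_subgroupOf.1 hx)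
        rwa [← show y = x from Subtype.ext hyx])
      (fun a ha m hm => Subgroup.mem_subgroupOf.2 (hM _ ⟨a, ha, rfl⟩ _ hm)) with e' | e'
    · exact Or.inl (by rw [← e, e'])
    · exact Or.inr (by rw [← e, e'])

theorem relative (n : ℕ) : ∀ (G : Type u) [Group G] [Fintype G], Nat.card G = n → ∀ (N : Subgroup G) [N.Normal],
    Group.IsSolvable (G ⧸ N) → NonSquareChief N → ∀ χ : G → ℂ, IsIrrCharacter G χ →
      ∃ (H : Subgroup G) (hNH : N ≤ H) (ψ : H → ℂ), IsIrrCharacter H ψ ∧ indFun H ψ = χ ∧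
        IsIrrCharacter N (fun x : N => ψ ⟨(x : G), hNH x.2⟩) := by
  induction n using Nat.strong_induction_on with
  | _ n IH =>
  intro G _ _ hn N _ hsolv hch χ hχ
  classical
  subst hn
  have hcl := IsCharacter.isClassFunction (IsIrrCharacter.isCharacter hχ)
  let S : Finset (Subgroup G) := Finset.univ.filter fun K =>
    K.Normal ∧ N ≤ K ∧ IsIrrCharacter K (resFun K χ)
  have htop : (⊤ : Subgroup G) ∈ S := Finset.mem_filter.2 ⟨Finset.mem_univ _, inferInstance, le_top,
    IsIrrCharacter.comp_surjective hχ (Subgroup.topEquiv (G := G)).toMonoidHom (Subgroup.topEquiv (G := G)).surjective⟩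
  obtain ⟨K, hK, hKmin⟩ := Finset.exists_min_image S (fun X => Nat.card X) ⟨⊤, htop⟩
  obtain ⟨hKn, hNK, hKirr⟩ := (Finset.mem_filter.1 hK).2
  haveI := hKn
  rcases hNK.lt_or_eq with hlt | heq
  swap
  · subst heq
    exact ⟨⊤, le_top, fun x => χ x,
      IsIrrCharacter.comp_surjective hχ (Subgroup.topEquiv (G := G)).toMonoidHom (Subgroup.topEquiv (G := G)).surjective,
      indFun_top hcl, hKirr⟩
  let S' : Finset (Subgroup G) := Finset.univ.filter fun L => L.Normal ∧ N ≤ L ∧ L < K
  obtain ⟨L, hL, hLmax⟩ := Finset.exists_max_image S' (fun X => Nat.card X)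
    ⟨N, Finset.mem_filter.2 ⟨Finset.mem_univ _, inferInstance, le_rfl, hlt⟩⟩
  obtain ⟨hLn, hNL, hLK⟩ := (Finset.mem_filter.1 hL).2
  haveI := hLn
  have hchief : ∀ M : Subgroup G, M.Normal → L ≤ M → M ≤ K → M = L ∨ M = K := by
    intro M hM h1 h2
    rcases h2.lt_or_eq with h | h
    · exact Or.inl (Subgroup.eq_of_le_of_card_ge h1
        (hLmax M (Finset.mem_filter.2 ⟨Finset.mem_univ _, hM, hNL.trans h1, h⟩))).symm
    · exact Or.inr h
  have hcom : ⁅K, K⁆ ≤ L := by
    refine commutator_le_of_chief L K hLK hchief ?_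
    haveI := hsolv
    haveI : Group.IsSolvable (G ⧸ L) := Group.isSolvable_of_surjective
      (QuotientGroup.map_surjective_of_surjective N L (MonoidHom.id G) QuotientGroup.mk_surjective (by exact hNL))
    exact Group.isSolvable_of_isSolvable_injective (K.map (QuotientGroup.mk' L)).subtype_injective
  rcases Agent.S0857.result K L hLK hchief hcom (resFun K χ) hKirr
      (fun g k => hcl (k : G) g) with h | ⟨φ, e, -, -, he⟩ | ⟨F, hF, hcard, hsum⟩
  · exact absurd (hKmin L (Finset.mem_filter.2 ⟨Finset.mem_univ _, hLn, hNL, h⟩))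
      (fun hle => hLK.ne (Subgroup.eq_of_le_of_card_ge hLK.le hle))
  · refine absurd ⟨e, by rw [← he, sq]⟩ (hch ⊤ K L hNL hLK le_top (fun g _ k hk => hKn.conj_mem k hk g)
      (fun g _ l hl => hLn.conj_mem l hl g) fun M h1 h2 hM => hchief M ⟨fun m hm g => hM g trivial m hm⟩ h1 h2)
  · haveI := Fintype.ofFinite L
    have hres : resFun L χ = ∑ φ ∈ F, φ := hsum
    have hrel : L.relIndex K ≠ 1 := fun h => hLK.not_ge (Subgroup.relIndex_eq_one.1 h)
    obtain ⟨φ, hφ, φ', hφ', hne⟩ := Finset.one_lt_card.1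
      (show 1 < F.card by have : L.relIndex K ≠ 0 := Subgroup.index_ne_zero_of_finite; omega)
    have hin : ∀ ξ ∈ F, classInner (resFun L χ) ξ = 1 := fun ξ hξ => by
      rw [hres, classInner_sum_left, Finset.sum_eq_single ξ
        (fun b hb hbne => classInner_irr_of_ne (hF b hb) (hF ξ hξ) hbne) (fun h => absurd hξ h),
        classInner_irr_self (hF ξ hξ)]
    obtain ⟨hle, ψ, e, -, -, hind⟩ := exists_indFun_inertia L ⟨χ, hχ⟩ ⟨φ, hF φ hφ⟩
      (by show classInner (resFun L χ) φ ≠ 0; rw [hin φ hφ]; exact one_ne_zero)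
    haveI := Fintype.ofFinite (inertiaGroup L φ)
    have hTtop : (inertiaGroup L φ) ≠ ⊤ := fun h => by
      have h1 := resFun_eq_smul_of_invariant L ⟨χ, hχ⟩ ⟨φ, hF φ hφ⟩
        (fun g => mem_inertiaGroup.1 (show g ∈ inertiaGroup L φ by rw [h]; exact Subgroup.mem_top g))
        (by show classInner (resFun L χ) φ ≠ 0; rw [hin φ hφ]; exact one_ne_zero)
      have h2 : classInner (resFun L χ) φ' = classInner (resFun L χ) φ * classInner φ φ' := by
        conv_lhs => rw [show resFun L χ = classInner (resFun L χ) φ • φ from h1, classInner_smul_left]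
      rw [hin φ hφ, hin φ' hφ', classInner_irr_of_ne (hF φ hφ) (hF φ' hφ') hne, mul_zero] at h2
      exact one_ne_zero h2
    have hltT : Nat.card (inertiaGroup L φ) < Nat.card G := by
      rcases (Subgroup.card_le_card_group (inertiaGroup L φ)).lt_or_eq with h | h
      · exact h
      · exact absurd (Subgroup.eq_top_of_card_eq (inertiaGroup L φ) h) hTtop
    have hNT : N ≤ (inertiaGroup L φ) := hNL.trans hle
    haveI : (N.subgroupOf (inertiaGroup L φ)).Normal := Subgroup.Normal.subgroupOf inferInstance (inertiaGroup L φ)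
    have hsolvT : Group.IsSolvable ((inertiaGroup L φ) ⧸ N.subgroupOf (inertiaGroup L φ)) := by
      haveI := hsolv
      refine Group.isSolvable_of_isSolvable_injective
        (f := QuotientGroup.map (N.subgroupOf (inertiaGroup L φ)) N (inertiaGroup L φ).subtype (fun x hx => hx)) ?_
      rw [injective_iff_map_eq_one]
      intro x
      induction x using QuotientGroup.induction_on with
      | _ x => exact fun hx => (QuotientGroup.eq_one_iff x).2 ((QuotientGroup.eq_one_iff (x : G)).1 hx)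
    obtain ⟨H, hNH, η, hη, hηind, hηres⟩ := IH _ hltT (inertiaGroup L φ) rfl (N.subgroupOf (inertiaGroup L φ)) hsolvT (hch.restrict (inertiaGroup L φ) hNT) ψ.1 ψ.2
    haveI := Fintype.ofFinite H
    let E := H.equivMapOfInjective (inertiaGroup L φ).subtype (inertiaGroup L φ).subtype_injective
    have hNH' : N ≤ H.map (inertiaGroup L φ).subtype := fun x hx =>
      ⟨⟨x, hNT hx⟩, hNH (Subgroup.mem_subgroupOf.2 hx), rfl⟩
    refine ⟨H.map (inertiaGroup L φ).subtype, hNH', fun x => η (E.symm x),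
      IsIrrCharacter.comp_surjective hη E.symm.toMonoidHom E.symm.surjective, ?_, ?_⟩
    · rw [← indFun_indFun, hηind]; exact hind
    · have h := IsIrrCharacter.comp_surjective hηres (Subgroup.subgroupOfEquivOfLe hNT).symm.toMonoidHom
        (Subgroup.subgroupOfEquivOfLe hNT).symm.surjective
      refine (funext fun x => ?_ : (fun x : N => η (E.symm ⟨(x : G), hNH' x.2⟩)) = _) ▸ h
      exact congrArg η (E.injective (by rw [MulEquiv.apply_symm_apply]; exact Subtype.ext rfl))

end Cfsg.Agent.MonomialRel
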